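import Groth.Agent.H26CDiv.Generization
import Groth.Agent.H11Ample.Tensor
import Groth.Agent.H06Mod.StalkPullback
import Groth.Prelude.Def_Omega4

/-! Rational sections of an invertible module and their good loci. -/

set_option autoImplicit false
set_option linter.style.haveILetI false
universe u

open CategoryTheory CategoryTheory.Limits AlgebraicGeometry TopologicalSpace Opposite
open Groth.Agent.H11Tilde

namespace Groth.Agent.H11GenFibre

variable {X : Scheme.{u}} [IsIntegral X]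

theorem gen_mem {U : X.Opens} {x : X} (hx : x ∈ U) : genericPoint X ∈ U :=
  ((genericPoint_spec X).specializes (Set.mem_univ x)).mem_open U.2 hx

theorem isField_generic' (X : Scheme.{u}) [IsIntegral X] : IsField (X.presheaf.stalk (genericPoint X)) :=
  Field.toIsField X.functionField

/-- The map of a local ring to the function field. -/
noncomputable abbrev toK (x : X) : X.presheaf.stalk x →+* X.presheaf.stalk (genericPoint X) :=
  H26CDiv.spec ((genericPoint_spec X).specializes (Set.mem_univ x))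

theorem toK_germ {U : X.Opens} (x : X) (hx : x ∈ U) (s : Γ(X, U)) :
    toK x (X.presheaf.germ U x hx s) = X.presheaf.germ U (genericPoint X) (gen_mem hx) s :=
  H26CDiv.spec_germ _ hx s

theorem toK_injective (x : X) : Function.Injective (toK (X := X) x) := by
  rw [injective_iff_map_eq_zero]
  intro a ha
  obtain ⟨U, hxU, r, rfl⟩ := TopCat.Presheaf.exists_germ_eq X.presheaf a
  rw [toK_germ, map_eq_zero_iff _ (germ_injective_of_isIntegral X _ _)] at ha
  rw [ha, map_zero]

theorem toK_spec {z x : X} (h : z ⤳ x) (a : X.presheaf.stalk x) : toK z (H26CDiv.spec h a) = toK x a := by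
  obtain ⟨U, hxU, r, rfl⟩ := TopCat.Presheaf.exists_germ_eq X.presheaf a
  rw [H26CDiv.spec_germ, toK_germ, toK_germ]

variable (L : X.Modules)

/-- `v` extends to a generator near `x`. -/
def Good (v : L.presheaf.stalk (genericPoint X)) (x : X) : Prop :=
  ∃ (V : X.Opens) (e : Γ(L, V)) (hx : x ∈ V), IsGen L e ∧ L.presheaf.germ V (genericPoint X) (gen_mem hx) e = v

variable {L}

theorem Good.isOpen (v : L.presheaf.stalk (genericPoint X)) : IsOpen {x | Good L v x} := by
  refine isOpen_iff_forall_mem_open.2 fun x hx => ?_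
  obtain ⟨V, e, hxV, he, hv⟩ := hx
  exact ⟨V, fun y hy => ⟨V, e, hy, he, hv⟩, V.2, hxV⟩

theorem Good.of_specializes {v : L.presheaf.stalk (genericPoint X)} {z x : X} (h : z ⤳ x) (hg : Good L v x) :
    Good L v z := h.mem_open (Good.isOpen v) hg

theorem Good.bijective_smul {v : L.presheaf.stalk (genericPoint X)} {x : X} (hg : Good L v x) :
    Function.Bijective fun r : X.presheaf.stalk (genericPoint X) => r • v := by
  obtain ⟨V, e, hxV, he, rfl⟩ := hg
  exact he _ (gen_mem hxV)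

/-- A generator times a unit. -/
theorem Good.smul {v : L.presheaf.stalk (genericPoint X)} {x : X} (hg : Good L v x) (u : (X.presheaf.stalk x)ˣ) :
    Good L (toK x u • v) x := by
  obtain ⟨V, e, hxV, he, rfl⟩ := hg
  obtain ⟨W, hxW, r, hr⟩ := TopCat.Presheaf.exists_germ_eq X.presheaf (u : X.presheaf.stalk x)
  have hxT : x ∈ V ⊓ W := ⟨hxV, hxW⟩
  let r' := X.presheaf.map (homOfLE (inf_le_right : V ⊓ W ≤ W)).op r
  have hu : x ∈ X.basicOpen r' := by
    rw [Scheme.mem_basicOpen X r' x hxT, TopCat.Presheaf.germ_res_apply, hr]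
    exact u.isUnit
  have hle : X.basicOpen r' ≤ V := (X.basicOpen_le r').trans inf_le_left
  refine ⟨X.basicOpen r', X.presheaf.map (homOfLE (X.basicOpen_le r')).op r' •
    L.presheaf.map (homOfLE hle).op e, hu,
    H11Ample.isGen_res he hle (RingedSpace.isUnit_res_basicOpen _ r'), ?_⟩
  rw [H06Mod.germ_smul, TopCat.Presheaf.germ_res_apply, TopCat.Presheaf.germ_res_apply,
    TopCat.Presheaf.germ_res_apply, ← hr, toK_germ]

/-- Two rational sections generating at the same point differ by a unit. -/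
theorem Good.exists_unit {v : L.presheaf.stalk (genericPoint X)} {x : X} (hg : Good L v x)
    {f : X.presheaf.stalk (genericPoint X)} (hg' : Good L (f • v) x) :
    ∃ u : (X.presheaf.stalk x)ˣ, toK x u = f := by
  have hbij := hg.bijective_smul
  obtain ⟨V, e, hxV, he, hv⟩ := hg
  obtain ⟨V', e', hxV', he', hv'⟩ := hg'
  obtain ⟨c, hc⟩ := (he x hxV).2 (L.presheaf.germ V' x hxV' e')
  have hu : IsUnit c := isUnit_of_bijective_smul he hxV (by
    have h2 := (he' x hxV').2
    rwa [← show c • L.presheaf.germ V x hxV e = L.presheaf.germ V' x hxV' e' from hc] at h2)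
  refine ⟨hu.unit, hbij.1 ?_⟩
  show toK x c • v = f • v
  obtain ⟨W, hxW, r, rfl⟩ := TopCat.Presheaf.exists_germ_eq X.presheaf c
  have hc' : L.presheaf.germ (W ⊓ V) x ⟨hxW, hxV⟩ (X.presheaf.map (homOfLE (inf_le_left : W ⊓ V ≤ W)).op r •
      L.presheaf.map (homOfLE (inf_le_right : W ⊓ V ≤ V)).op e) = L.presheaf.germ V' x hxV' e' := by
    rw [H06Mod.germ_smul, TopCat.Presheaf.germ_res_apply, TopCat.Presheaf.germ_res_apply]
    exact hc
  obtain ⟨T, hxT, i, i', hT⟩ := L.presheaf.germ_eq x _ _ _ _ hc'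
  have h3 := congrArg (L.presheaf.germ T (genericPoint X) (gen_mem hxT)) hT
  rw [TopCat.Presheaf.germ_res_apply, TopCat.Presheaf.germ_res_apply, H06Mod.germ_smul,
    TopCat.Presheaf.germ_res_apply, TopCat.Presheaf.germ_res_apply, hv, hv'] at h3
  rw [toK_germ]
  exact h3

theorem exists_good (hL : PicF.IsInvertible L) (x : X) : ∃ v, Good L v x := by
  obtain ⟨V, e, hxV, he⟩ := H11Ample.exists_gen hL x
  exact ⟨_, V, e, hxV, he, rfl⟩

/-- A rational function which is everywhere regular on an open is a section. -/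
theorem exists_section {W : X.Opens} (z : X.presheaf.stalk (genericPoint X))
    (h : ∀ x ∈ W, ∃ r : X.presheaf.stalk x, toK x r = z) :
    ∃ g : Γ(X, W), ∀ x (hx : x ∈ W), toK x (X.presheaf.germ W x hx g) = z := by
  have h' : ∀ x : W, ∃ (T : X.Opens) (hT : T ≤ W) (r : Γ(X, T)) (hxT : x.1 ∈ T),
      toK x.1 (X.presheaf.germ T x.1 hxT r) = z := fun x => by
    obtain ⟨r, hr⟩ := h x.1 x.2
    obtain ⟨T, hxT, r, rfl⟩ := TopCat.Presheaf.exists_germ_eq X.presheaf r
    exact ⟨T ⊓ W, inf_le_right, X.presheaf.map (homOfLE inf_le_left).op r, ⟨hxT, x.2⟩, by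
      rw [TopCat.Presheaf.germ_res_apply, hr]⟩
  choose T hT r hxT hr using h'
  have hgen : ∀ (x : W) (y : X) (hy : y ∈ T x), toK y (X.presheaf.germ (T x) y hy (r x)) = z := fun x y hy => by
    rw [toK_germ, ← toK_germ x.1 (hxT x), hr]
  obtain ⟨g, hg, -⟩ := TopCat.Sheaf.existsUnique_gluing' X.sheaf T W (fun x => homOfLE (hT x))
    (fun x hx => Opens.mem_iSup.2 ⟨⟨x, hx⟩, hxT ⟨x, hx⟩⟩) r fun a b => by
      refine TopCat.Presheaf.section_ext X.sheaf _ _ _ fun y hy => toK_injective y ?_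
      erw [TopCat.Presheaf.germ_res_apply, TopCat.Presheaf.germ_res_apply]
      exact (hgen a y hy.1).trans (hgen b y hy.2).symm
  refine ⟨g, fun x hx => ?_⟩
  rw [← hr ⟨x, hx⟩, ← hg ⟨x, hx⟩]
  erw [TopCat.Presheaf.germ_res_apply]

/-- Sections of an invertible module agree when their germs at the generic point do. -/
theorem germ_eq_of_gen {V : X.Opens} {e : Γ(L, V)} (he : IsGen L e) {W W' : X.Opens} {x : X} (hx : x ∈ W)
    (hx' : x ∈ W') (hxV : x ∈ V) {s : Γ(L, W)} {t : Γ(L, W')}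
    (h : L.presheaf.germ W (genericPoint X) (gen_mem hx) s = L.presheaf.germ W' (genericPoint X) (gen_mem hx') t) :
    L.presheaf.germ W x hx s = L.presheaf.germ W' x hx' t := by
  let T := W ⊓ W' ⊓ V
  have hT : x ∈ T := ⟨⟨hx, hx'⟩, hxV⟩
  obtain ⟨r, hr⟩ := (he.bijective (inf_le_right : T ≤ V)).2
    (L.presheaf.map (homOfLE (inf_le_left.trans inf_le_left : T ≤ W)).op s)
  obtain ⟨r', hr'⟩ := (he.bijective (inf_le_right : T ≤ V)).2
    (L.presheaf.map (homOfLE (inf_le_left.trans inf_le_right : T ≤ W')).op t)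
  have h1 := congrArg (L.presheaf.germ T (genericPoint X) (gen_mem hT)) hr
  have h2 := congrArg (L.presheaf.germ T (genericPoint X) (gen_mem hT)) hr'
  rw [H06Mod.germ_smul, TopCat.Presheaf.germ_res_apply, TopCat.Presheaf.germ_res_apply] at h1 h2
  have h3 : r = r' := germ_injective_of_isIntegral X _ _ ((he _ (gen_mem hxV)).1 (h1.trans (h.trans h2.symm)))
  rw [← L.presheaf.germ_res_apply (homOfLE (inf_le_left.trans inf_le_left : T ≤ W)) x hT s,
    ← L.presheaf.germ_res_apply (homOfLE (inf_le_left.trans inf_le_right : T ≤ W')) x hT t, ← hr, ← hr', h3]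

theorem eq_of_germ (L : X.Modules) {W : X.Opens} (s t : Γ(L, W))
    (hL : ∀ x ∈ W, ∃ (V : X.Opens) (e : Γ(L, V)), x ∈ V ∧ IsGen L e)
    (h : ∀ x (hx : x ∈ W),
      L.presheaf.germ W (genericPoint X) (gen_mem hx) s = L.presheaf.germ W (genericPoint X) (gen_mem hx) t) :
    s = t :=
  TopCat.Presheaf.section_ext ⟨L.presheaf, L.isSheaf⟩ W s t fun x hx => by
    obtain ⟨V, e, hxV, he⟩ := hL x hx
    exact germ_eq_of_gen he hx hx hxV (h x hx)

/-- A good rational section is a generator over the good locus. -/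
theorem exists_frame {v : L.presheaf.stalk (genericPoint X)} {W : X.Opens} (h : ∀ x ∈ W, Good L v x) :
    ∃ m : Γ(L, W), IsGen L m ∧
      ∀ x (hx : x ∈ W), L.presheaf.germ W (genericPoint X) (gen_mem hx) m = v := by
  choose V e hx he hv using fun x : W => h x.1 x.2
  let T : W → X.Opens := fun x => V x ⊓ W
  obtain ⟨m, hm, -⟩ := TopCat.Sheaf.existsUnique_gluing' ⟨L.presheaf, L.isSheaf⟩ T W (fun x => homOfLE inf_le_right)
    (fun x hxW => Opens.mem_iSup.2 ⟨⟨x, hxW⟩, hx ⟨x, hxW⟩, hxW⟩)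
    (fun x => L.presheaf.map (homOfLE (inf_le_left : V x ⊓ W ≤ V x)).op (e x)) fun a b => by
      refine eq_of_germ L _ _ (fun y hy => ⟨V a, e a, hy.1.1, he a⟩) fun y hy => ?_
      erw [TopCat.Presheaf.germ_res_apply, TopCat.Presheaf.germ_res_apply, TopCat.Presheaf.germ_res_apply,
        TopCat.Presheaf.germ_res_apply]
      exact (hv a).trans (hv b).symm
  have hm' : ∀ y (hy : y ∈ W), L.presheaf.germ W y hy m = L.presheaf.germ (V ⟨y, hy⟩) y (hx ⟨y, hy⟩) (e ⟨y, hy⟩) :=
    fun y hy => by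
      have := congrArg (L.presheaf.germ (T ⟨y, hy⟩) y ⟨hx ⟨y, hy⟩, hy⟩) (hm ⟨y, hy⟩)
      erw [TopCat.Presheaf.germ_res_apply, TopCat.Presheaf.germ_res_apply] at this
      exact this
  refine ⟨m, fun y hy => ?_, fun y hy => ?_⟩
  · rw [hm' y hy]
    exact he _ y _
  · have h1 := congrArg (L.presheaf.germ (T ⟨y, hy⟩) (genericPoint X) (gen_mem (x := y) ⟨hx ⟨y, hy⟩, hy⟩)) (hm ⟨y, hy⟩)
    erw [TopCat.Presheaf.germ_res_apply, TopCat.Presheaf.germ_res_apply] at h1
    exact h1.trans (hv _)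

variable {Z : Scheme.{u}} (ι : Z ⟶ X) (θ : (Scheme.Modules.pullback ι).obj L ≅ Coh.structureModule Z)

/-- The function attached to a section through a trivialisation of the pullback. -/
noncomputable def psi {V : X.Opens} (e : Γ(L, V)) : Γ(Z, ι ⁻¹ᵁ V) :=
  θ.hom.app (ι ⁻¹ᵁ V) (OmegaSh.pullSect ι L V e)

omit [IsIntegral X] in
theorem psi_smul {V : X.Opens} (r : Γ(X, V)) (e : Γ(L, V)) : psi ι θ (r • e) = ι.app V r * psi ι θ e := by
  unfold psi
  rw [show OmegaSh.pullSect ι L V (r • e) = ι.app V r • OmegaSh.pullSect ι L V e from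
    Scheme.Modules.Hom.app_smul _ r e, Scheme.Modules.Hom.app_smul]
  rfl

omit [IsIntegral X] in
theorem isUnit_germ_psi {V : X.Opens} {e : Γ(L, V)} (he : IsGen L e) (z : Z) (hz : ι z ∈ V) :
    IsUnit (Z.presheaf.germ (ι ⁻¹ᵁ V) z hz (psi ι θ e)) := by
  have hgen : IsGen (Coh.structureModule Z) (psi ι θ e) := H11Ample.isGen_map_iso θ (IsGen.pullSect ι he)
  obtain ⟨r, hr⟩ := (hgen.bijective le_rfl).2 (1 : Γ(Z, ι ⁻¹ᵁ V))
  have hr' : r * psi ι θ e = 1 := by
    refine Eq.trans ?_ hr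
    exact congrArg (r * ·) (congr($(Z.presheaf.map_id (op (ι ⁻¹ᵁ V))) (psi ι θ e))).symm
  exact (IsUnit.of_mul_eq_one (a := psi ι θ e) r ((mul_comm _ _).trans hr')).map _

include θ in
/-- A rational section generating wherever the flat preimmersion `ι` lands. -/
theorem exists_good_on_range [IsPreimmersion ι] (hbij : ∀ z, Function.Bijective (ι.stalkMap z).hom) (hL : PicF.IsInvertible L) (ξ : Z)
    (hξ : ι ξ = genericPoint X) (hsp : ∀ z : Z, ξ ⤳ z) : ∃ v, ∀ z : Z, Good L v (ι z) := by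
  -- normalised generators near each point
  have hnorm : ∀ z : Z, ∃ (V : X.Opens) (e : Γ(L, V)) (hz : ι z ∈ V), IsGen L e ∧
      Z.presheaf.germ (ι ⁻¹ᵁ V) z hz (psi ι θ e) = 1 := fun z => by
    obtain ⟨V, e, hzV, he⟩ := H11Ample.exists_gen hL (ι z)
    obtain ⟨c, hc⟩ := (isUnit_germ_psi ι θ he z hzV).exists_left_inv
    obtain ⟨a, ha⟩ := (hbij z).2 c
    haveI : IsLocalHom (ι.stalkMap z).hom := ι.toLRSHom.prop z
    have hau : IsUnit a := isUnit_of_map_unit (ι.stalkMap z).hom a (ha ▸ IsUnit.of_mul_eq_one _ hc)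
    obtain ⟨W, hzW, r, rfl⟩ := TopCat.Presheaf.exists_germ_eq X.presheaf a
    let r' := X.presheaf.map (homOfLE (inf_le_right : V ⊓ W ≤ W)).op r
    have hzB : ι z ∈ X.basicOpen r' := by
      rw [Scheme.mem_basicOpen X r' _ ⟨hzV, hzW⟩, TopCat.Presheaf.germ_res_apply]
      exact hau
    have hle : X.basicOpen r' ≤ V := (X.basicOpen_le r').trans inf_le_left
    refine ⟨X.basicOpen r', X.presheaf.map (homOfLE (X.basicOpen_le r')).op r' •
      L.presheaf.map (homOfLE hle).op e, hzB,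
      H11Ample.isGen_res he hle (RingedSpace.isUnit_res_basicOpen _ r'), ?_⟩
    rw [psi_smul, map_mul, ← hc, ← ha, ← Scheme.Hom.germ_stalkMap_apply, TopCat.Presheaf.germ_res_apply,
      TopCat.Presheaf.germ_res_apply]
    congr 1
    have hnat : psi ι θ (L.presheaf.map (homOfLE hle).op e) =
        Z.presheaf.map (homOfLE (ι.preimage_mono hle)).op (psi ι θ e) := by
      unfold psi
      rw [OmegaSh.pullSect_map ι L]
      exact H11Tilde.app_map_apply θ.hom _ _
    rw [hnat, TopCat.Presheaf.germ_res_apply]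
  choose V e hz he h1 using hnorm
  refine ⟨L.presheaf.germ (V ξ) (genericPoint X) (hξ ▸ hz ξ) (e ξ), fun z => ⟨V z, e z, hz z, he z, ?_⟩⟩
  -- compare at the generic point
  have h3 : Z.presheaf.germ (ι ⁻¹ᵁ V z) ξ ((hsp z).mem_open (ι ⁻¹ᵁ V z).2 (hz z)) (psi ι θ (e z)) = 1 := by
    rw [← TopCat.Presheaf.germ_stalkSpecializes_apply Z.presheaf (hz z) (hsp z), h1, map_one]
  have hξV : ι ξ ∈ V z := (hsp z).mem_open (ι ⁻¹ᵁ V z).2 (hz z)
  obtain ⟨c, hc⟩ := (he z (ι ξ) hξV).2 (L.presheaf.germ (V ξ) (ι ξ) (hz ξ) (e ξ))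
  obtain ⟨W, hW, r, rfl⟩ := TopCat.Presheaf.exists_germ_eq X.presheaf c
  have hc' : L.presheaf.germ (W ⊓ V z) (ι ξ) ⟨hW, hξV⟩ (X.presheaf.map (homOfLE (inf_le_left : W ⊓ V z ≤ W)).op r •
      L.presheaf.map (homOfLE (inf_le_right : W ⊓ V z ≤ V z)).op (e z)) = L.presheaf.germ (V ξ) (ι ξ) (hz ξ) (e ξ) := by
    rw [H06Mod.germ_smul, TopCat.Presheaf.germ_res_apply, TopCat.Presheaf.germ_res_apply]
    exact hc
  have h4 := congrArg (H06Mod.pullStalk ι L ξ) hc'
  rw [H06Mod.pullStalk_germ, H06Mod.pullStalk_germ] at h4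
  have h5 := congrArg ((TopCat.Presheaf.stalkFunctor Ab.{u} ξ).map θ.hom.mapPresheaf) h4
  rw [TopCat.Presheaf.stalkFunctor_map_germ_apply, TopCat.Presheaf.stalkFunctor_map_germ_apply] at h5
  obtain ⟨T, hT, i, i', h6⟩ := (Coh.structureModule Z).presheaf.germ_eq ξ _ _ _ _ h5
  have h7 : Z.presheaf.map i.op (psi ι θ (X.presheaf.map (homOfLE (inf_le_left : W ⊓ V z ≤ W)).op r •
      L.presheaf.map (homOfLE (inf_le_right : W ⊓ V z ≤ V z)).op (e z))) = Z.presheaf.map i'.op (psi ι θ (e ξ)) := h6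
  have h8 := congrArg (Z.presheaf.germ T ξ hT) h7
  rw [TopCat.Presheaf.germ_res_apply, TopCat.Presheaf.germ_res_apply, psi_smul, map_mul, h1,
    ← Scheme.Hom.germ_stalkMap_apply ι (W ⊓ V z) ξ ⟨hW, hξV⟩, TopCat.Presheaf.germ_res_apply] at h8
  have hnat : psi ι θ (L.presheaf.map (homOfLE (inf_le_right : W ⊓ V z ≤ V z)).op (e z)) =
      Z.presheaf.map (homOfLE (ι.preimage_mono inf_le_right)).op (psi ι θ (e z)) := by
    unfold psi
    rw [OmegaSh.pullSect_map ι L]
    exact H11Tilde.app_map_apply θ.hom _ _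
  rw [hnat, TopCat.Presheaf.germ_res_apply, h3, mul_one] at h8
  have hcu : X.presheaf.germ W (ι ξ) hW r = 1 := (hbij ξ).1 (h8.trans (map_one _).symm)
  rw [hcu] at hc
  simp only [one_smul] at hc
  have hd : L.presheaf.germ (V z) (ι ξ) hξV (e z) = L.presheaf.germ (V ξ) (ι ξ) (hz ξ) (e ξ) := hc
  obtain ⟨T, hT, i, i', h9⟩ := L.presheaf.germ_eq _ _ _ _ _ hd
  have := congrArg (L.presheaf.germ T (genericPoint X) (gen_mem hT)) h9
  rwa [TopCat.Presheaf.germ_res_apply, TopCat.Presheaf.germ_res_apply] at this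

end Groth.Agent.H11GenFibre
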