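import Groth.Agent.H11GenFibre.Fibre
import Groth.Agent.H11GenFibre.Sections
import Groth.Agent.H8Props.Reduced
import Groth.Agent.H7Flat.LineCocycle
import Groth.Agent.S8886
import Groth.Prelude.Def_Pi1

/-! Invertible modules trivial on the generic fibre of a flat morphism with integral fibres. -/

set_option autoImplicit false
set_option linter.style.haveILetI false
universe u

open CategoryTheory CategoryTheory.Limits AlgebraicGeometry TopologicalSpace Opposite
open Groth.Agent.H11Tilde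

namespace Groth.Agent.H11GenFibre

variable {X Y : Scheme.{u}} (φ : X ⟶ Y)

theorem surjective_of_fibres (hfib : ∀ y : Y, IsIntegral (φ.fiber y)) : Function.Surjective φ := fun y => by
  haveI := hfib y
  obtain ⟨z⟩ := (inferInstance : Nonempty (φ.fiber y))
  exact ⟨φ.fiberι y z, (φ.range_fiberι y).le ⟨z, rfl⟩⟩

theorem exists_generic_of_fibre (hfib : ∀ y : Y, IsIntegral (φ.fiber y)) (y : Y) :
    ∃ z : X, φ z = y ∧ ∀ x, φ x = y → z ⤳ x := by
  haveI := hfib y
  refine ⟨φ.fiberι y (genericPoint (φ.fiber y)), (φ.range_fiberι y).le ⟨_, rfl⟩, fun x hx => ?_⟩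
  obtain ⟨x', rfl⟩ := (φ.range_fiberι y).ge hx
  exact ((genericPoint_spec _).specializes (Set.mem_univ x')).map (φ.fiberι y).continuous

variable [IsIntegral X] [IsIntegral Y]

theorem map_genericPoint (hsurj : Function.Surjective φ) : φ (genericPoint X) = genericPoint Y := by
  obtain ⟨x, hx⟩ := hsurj (genericPoint Y)
  have h : φ (genericPoint X) ⤳ genericPoint Y :=
    hx ▸ ((genericPoint_spec X).specializes (Set.mem_univ x)).map φ.continuous
  exact (h.antisymm ((genericPoint_spec Y).specializes trivial)).eq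

variable (hsurj : Function.Surjective φ)

/-- The extension of function fields. -/
noncomputable def tau : Y.presheaf.stalk (genericPoint Y) →+* X.presheaf.stalk (genericPoint X) :=
  (φ.stalkMap (genericPoint X)).hom.comp
    (H26CDiv.spec (specializes_of_eq (map_genericPoint φ hsurj)))

theorem tau_toK (x : X) (a : Y.presheaf.stalk (φ x)) :
    tau φ hsurj (toK (φ x) a) = toK x (φ.stalkMap x a) := by
  obtain ⟨U, hxU, r, rfl⟩ := TopCat.Presheaf.exists_germ_eq Y.presheaf a
  rw [toK_germ, Scheme.Hom.germ_stalkMap_apply, toK_germ]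
  show φ.stalkMap (genericPoint X) (H26CDiv.spec _ _) = _
  rw [H26CDiv.spec_germ, Scheme.Hom.germ_stalkMap_apply]

theorem isUnit_toK {x : X} {a : X.presheaf.stalk x} (ha : a ≠ 0) : IsUnit (toK x a) := by
  letI := (isField_generic' X).toField
  exact isUnit_iff_ne_zero.2 ((map_ne_zero_iff _ (toK_injective x)).2 ha)

variable [Flat φ] [IsLocallyNoetherian Y]

omit [IsLocallyNoetherian Y] in
/-- Denominators of a function regular along the generic fibre come from the base. -/
theorem exists_denominator (x : X) (f : X.presheaf.stalk (genericPoint X))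
    (h : ∀ z, z ⤳ x → φ z = genericPoint Y → ∃ c : X.presheaf.stalk z, toK z c = f) :
    ∃ a : Y.presheaf.stalk (φ x), a ≠ 0 ∧ ∃ b : X.presheaf.stalk x, toK x (φ.stalkMap x a) * f = toK x b := by
  let J : Ideal (X.presheaf.stalk x) :=
    { carrier := {r | ∃ b, toK x r * f = toK x b}
      zero_mem' := ⟨0, by simp⟩
      add_mem' := by
        rintro r r' ⟨b, hb⟩ ⟨b', hb'⟩
        exact ⟨b + b', by rw [map_add, map_add, add_mul, hb, hb']⟩
      smul_mem' := by
        rintro c r ⟨b, hb⟩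
        exact ⟨c * b, by rw [smul_eq_mul, map_mul, map_mul, mul_assoc, hb]⟩ }
  by_contra hne
  push Not at hne
  let S : Submonoid (X.presheaf.stalk x) := (nonZeroDivisors (Y.presheaf.stalk (φ x))).map (φ.stalkMap x).hom
  have hdisj : Disjoint (J : Set (X.presheaf.stalk x)) S := by
    rw [Set.disjoint_left]
    rintro r ⟨b, hb⟩ ⟨a, ha, rfl⟩
    exact hne a (nonZeroDivisors.ne_zero ha) b hb
  obtain ⟨P, hP, hJP, hPS⟩ := Ideal.exists_le_prime_disjoint J S hdisj
  obtain ⟨z, hzx, hq⟩ := H26CDiv.exists_qOf_eq P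
  have hbot : H26CDiv.qOf (hzx.map φ.continuous) = ⊥ := by
    refine eq_bot_iff.2 fun a ha => ?_
    by_contra ha0
    refine Set.disjoint_left.1 hPS ?_ ⟨a, mem_nonZeroDivisors_of_ne_zero (fun h => ha0 (h ▸ zero_mem _)), rfl⟩
    rw [← hq]
    refine (H26CDiv.mem_qOf_iff hzx _).2 fun hu => ha ?_
    have e : H26CDiv.spec hzx (φ.stalkMap x a) = φ.stalkMap z (H26CDiv.spec (hzx.map φ.continuous) a) :=
      (Scheme.Hom.stalkSpecializes_stalkMap_apply φ z x hzx a).symm
    haveI : IsLocalHom (φ.stalkMap z).hom := φ.toLRSHom.prop z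
    exact isUnit_of_map_unit (φ.stalkMap z).hom _ (e ▸ hu)
  have hco : Order.coheight (φ z) = 0 := by
    have h1 := H26CDiv.height_qOf (hzx.map φ.continuous)
    rw [hbot, Ideal.height_bot] at h1
    exact (WithBot.coe_injective h1).symm
  have hzη : φ z = genericPoint Y := by
    have hge : φ z ≤ genericPoint Y := Scheme.le_iff_specializes.2 ((genericPoint_spec Y).specializes trivial)
    exact ((Scheme.le_iff_specializes.1 ((Order.coheight_eq_zero.1 hco) hge)).antisymm
      (Scheme.le_iff_specializes.1 hge)).eq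
  obtain ⟨c, hc⟩ := h z hzx hzη
  obtain ⟨a, s, hs, has⟩ := H26CDiv.exists_mul_spec hzx c
  refine hs (hq ▸ hJP ⟨a, ?_⟩)
  rw [← hc, ← toK_spec hzx, ← toK_spec hzx, ← map_mul, mul_comm, has]

variable {L : X.Modules} (v₀ : L.presheaf.stalk (genericPoint X))

/-- `c • v₀` is good at `x`. -/
abbrev GoodAt (c : Y.presheaf.stalk (genericPoint Y)) (x : X) : Prop := Good L (tau φ hsurj c • v₀) x

variable [IsLocallyNoetherian X] (hY : Pi1.IsNormalScheme Y) (hfib : ∀ y : Y, IsIntegral (φ.fiber y))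

include hY hfib in
/-- At each point some multiple of the frame by a function of the base generates. -/
theorem exists_goodAt (hL : PicF.IsInvertible L) (hv₀ : ∀ z, φ z = genericPoint Y → Good L v₀ z) (x : X) :
    ∃ c : Y.presheaf.stalk (genericPoint Y), c ≠ 0 ∧ GoodAt φ hsurj v₀ c x := by
  obtain ⟨v, hv⟩ := exists_good hL x
  obtain ⟨x₀, hx₀⟩ := hsurj (genericPoint Y)
  obtain ⟨f, hf⟩ := (hv₀ x₀ hx₀).bijective_smul.2 v
  obtain ⟨g, hg⟩ := hv.bijective_smul.2 v₀
  have hf' : f • v₀ = v := hf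
  have hg' : g • v = v₀ := hg
  have hgf : f * g = 1 := hv.bijective_smul.1 (show (f * g) • v = (1 : X.presheaf.stalk (genericPoint X)) • v by
    rw [one_smul, mul_smul, hg', hf'])
  obtain ⟨a, ha, b, hb⟩ := exists_denominator φ x f fun z hz hzη => by
    obtain ⟨u, hu⟩ := (hv₀ z hzη).exists_unit (f := f) (hf'.symm ▸ hv.of_specializes hz)
    exact ⟨u, hu⟩
  obtain ⟨a', ha', b', hb'⟩ := exists_denominator φ x g fun z hz hzη => by
    obtain ⟨u, hu⟩ := (hv.of_specializes hz).exists_unit (f := g) (hg'.symm ▸ hv₀ z hzη)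
    exact ⟨u, hu⟩
  have hbb : b * b' = φ.stalkMap x (a * a') := toK_injective x (by
    rw [map_mul, ← hb, ← hb', mul_mul_mul_comm, hgf, mul_one, map_mul, map_mul])
  letI := (φ.stalkMap x).hom.toAlgebra
  haveI : IsLocalHom (algebraMap (Y.presheaf.stalk (φ x)) (X.presheaf.stalk x)) := φ.toLRSHom.prop x
  haveI : Module.Flat (Y.presheaf.stalk (φ x)) (X.presheaf.stalk x) := Flat.stalkMap φ x
  haveI := (hY (φ x)).2
  obtain ⟨c, hc, u, hcu⟩ := exists_eq_mul_unit (primeFibres_stalk φ hfib x) (mul_ne_zero ha ha') hbb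
  letI := (isField_generic' Y).toField
  refine ⟨toK (φ x) c * (toK (φ x) a)⁻¹, mul_ne_zero ((map_ne_zero_iff _ (toK_injective _)).2 hc)
    (inv_ne_zero ((map_ne_zero_iff _ (toK_injective _)).2 ha)), ?_⟩
  have h1 := hv.smul u⁻¹
  rw [← hf', ← mul_smul] at h1
  convert h1 using 2
  have ha1 : tau φ hsurj (toK (φ x) a) * tau φ hsurj (toK (φ x) a)⁻¹ = 1 := by
    rw [← map_mul, mul_inv_cancel₀ ((map_ne_zero_iff _ (toK_injective _)).2 ha), map_one]
  have hb1 : b = φ.stalkMap x c * u := hcu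
  have hu1 : toK x (u : X.presheaf.stalk x) * toK x (↑u⁻¹ : X.presheaf.stalk x) = 1 := by
    rw [← map_mul, Units.mul_inv, map_one]
  rw [hb1, map_mul, ← tau_toK φ hsurj, ← tau_toK φ hsurj] at hb
  rw [map_mul]
  linear_combination (-(tau φ hsurj (toK (φ x) a)⁻¹ * toK x (↑u⁻¹ : X.presheaf.stalk x))) * hb
    - (tau φ hsurj (toK (φ x) c) * tau φ hsurj (toK (φ x) a)⁻¹) * hu1
    + (f * toK x (↑u⁻¹ : X.presheaf.stalk x)) * ha1

include hY hfib in
/-- Two frames at points of one fibre differ by a unit of the base. -/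
theorem exists_unit_of_goodAt {c c' : Y.presheaf.stalk (genericPoint Y)} (hc0 : c ≠ 0) {x x' : X}
    (hxx : φ x' = φ x) (hc : GoodAt φ hsurj v₀ c x) (hc' : GoodAt φ hsurj v₀ c' x') :
    ∃ u : (Y.presheaf.stalk (φ x))ˣ, toK (φ x) (u : Y.presheaf.stalk (φ x)) * c = c' := by
  obtain ⟨z, hz, hzx⟩ := exists_generic_of_fibre φ hfib (φ x)
  suffices ∀ y : Y, φ z = y → ∃ u : (Y.presheaf.stalk y)ˣ, toK y (u : Y.presheaf.stalk y) * c = c' from this _ hz
  rintro _ rfl
  letI := (isField_generic' Y).toField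
  have hv : Good L (tau φ hsurj c • v₀) z := hc.of_specializes (hzx x rfl)
  obtain ⟨u, hu⟩ := hv.exists_unit (f := tau φ hsurj (c' / c)) (by
    rw [← mul_smul, ← map_mul, div_mul_cancel₀ _ hc0]
    exact hc'.of_specializes (hzx x' hxx))
  letI := (φ.stalkMap z).hom.toAlgebra
  haveI : IsLocalHom (algebraMap (Y.presheaf.stalk (φ z)) (X.presheaf.stalk z)) := φ.toLRSHom.prop z
  haveI : Module.Flat (Y.presheaf.stalk (φ z)) (X.presheaf.stalk z) := Flat.stalkMap φ z
  obtain ⟨a, s, hs, has⟩ := H26CDiv.exists_mul_spec ((genericPoint_spec Y).specializes (Set.mem_univ (φ z))) (c' / c)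
  have has' : c' / c * toK (φ z) s = toK (φ z) a := has
  have hs0 : s ≠ 0 := fun h => hs (h ▸ zero_mem _)
  obtain ⟨w, hw⟩ := isUnit_ratio (A := Y.presheaf.stalk (φ z)) (B := X.presheaf.stalk z) (a := a) (a' := s) u
    (toK_injective z (by
      rw [map_mul, hu]
      show toK z (φ.stalkMap z a) = toK z (φ.stalkMap z s) * _
      rw [← tau_toK φ hsurj, ← tau_toK φ hsurj, ← map_mul, mul_comm, has']))
  refine ⟨w, ?_⟩
  rw [hw, map_mul, mul_comm (toK (φ z) s)] at has'
  rw [← mul_right_cancel₀ ((map_ne_zero_iff _ (toK_injective (φ z))).2 hs0) has', div_mul_cancel₀ _ hc0]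

include hY hfib in
/-- The good locus is saturated. -/
theorem goodAt_of_eq (hL : PicF.IsInvertible L) (hv₀ : ∀ z, φ z = genericPoint Y → Good L v₀ z)
    {c : Y.presheaf.stalk (genericPoint Y)} (hc0 : c ≠ 0) {x x' : X} (hxx : φ x' = φ x)
    (hc : GoodAt φ hsurj v₀ c x) : GoodAt φ hsurj v₀ c x' := by
  obtain ⟨c', hc'0, hc'⟩ := exists_goodAt φ hsurj v₀ hY hfib hL hv₀ x'
  obtain ⟨u, hu⟩ := exists_unit_of_goodAt φ hsurj v₀ hY hfib hc'0 hxx.symm hc' hc
  have h1 := hc'.smul (u.map ((φ.stalkMap x').hom : _ →* _))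
  rw [← mul_smul] at h1
  show Good L (tau φ hsurj c • v₀) x'
  rw [← hu, map_mul, tau_toK]
  exact h1

include hsurj hY hfib in
theorem exists_invertible (hopen : ∀ O : Set Y, IsOpen (φ ⁻¹' O) → IsOpen O) (hL : PicF.IsInvertible L)
    (hv₀ : ∀ z, φ z = genericPoint Y → Good L v₀ z) :
    ∃ N : Y.Modules, PicF.IsInvertible N ∧ Nonempty (L ≅ (Scheme.Modules.pullback φ).obj N) := by
  letI := (isField_generic' Y).toField
  have hc' : ∀ y : Y, ∃ c : Y.presheaf.stalk (genericPoint Y), c ≠ 0 ∧ ∀ x, φ x = y → GoodAt φ hsurj v₀ c x :=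
    fun y => by
      obtain ⟨x, rfl⟩ := hsurj y
      obtain ⟨c, hc0, hc⟩ := exists_goodAt φ hsurj v₀ hY hfib hL hv₀ x
      exact ⟨c, hc0, fun x' hx' => goodAt_of_eq φ hsurj v₀ hY hfib hL hv₀ hc0 hx' hc⟩
  choose c hc0 hc using hc'
  have hpre : ∀ a : Y, φ ⁻¹' {y | ∀ x, φ x = y → GoodAt φ hsurj v₀ (c a) x} = {x | GoodAt φ hsurj v₀ (c a) x} :=
    fun a => Set.ext fun x => ⟨fun h => h x rfl, fun h x' hx' => goodAt_of_eq φ hsurj v₀ hY hfib hL hv₀ (hc0 a) hx' h⟩
  let V : Y → Y.Opens := fun a => ⟨{y | ∀ x, φ x = y → GoodAt φ hsurj v₀ (c a) x},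
    hopen _ ((hpre a).symm ▸ Good.isOpen _)⟩
  have hgood : ∀ a x, φ x ∈ V a → GoodAt φ hsurj v₀ (c a) x := fun a x h => h x rfl
  have hratio : ∀ a b y, y ∈ V a ⊓ V b → ∃ u : (Y.presheaf.stalk y)ˣ, toK y (u : Y.presheaf.stalk y) = c b / c a := by
    intro a b y hy
    obtain ⟨x, rfl⟩ := hsurj y
    obtain ⟨u, hu⟩ := exists_unit_of_goodAt φ hsurj v₀ hY hfib (hc0 a) (x := x) (x' := x) rfl
      (hgood a x hy.1) (hgood b x hy.2)
    exact ⟨u, by rw [← hu, mul_div_cancel_right₀ _ (hc0 a)]⟩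
  choose g hg using fun a b => exists_section (X := Y) (W := V a ⊓ V b) (c b / c a) fun y hy =>
    ⟨_, (hratio a b y hy).choose_spec⟩
  let D : H7Flat.LineCocycle.Data Y :=
    { J := Y
      V := V
      g := g
      isUnit := fun a b => RingedSpace.isUnit_of_isUnit_germ Y.toRingedSpace _ _ fun y hy => by
        rw [show Y.presheaf.germ (V a ⊓ V b) y hy (g a b) = ((hratio a b y hy).choose : Y.presheaf.stalk y) from
          toK_injective y ((hg a b y hy).trans (hratio a b y hy).choose_spec.symm)]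
        exact Units.isUnit _
      cocycle := fun a b e T ha hb he => by
        refine TopCat.Presheaf.section_ext Y.sheaf _ _ _ fun y hy => toK_injective y ?_
        show toK y (Y.presheaf.germ T y hy _) = toK y (Y.presheaf.germ T y hy _)
        rw [map_mul, map_mul]
        erw [TopCat.Presheaf.germ_res_apply, TopCat.Presheaf.germ_res_apply, TopCat.Presheaf.germ_res_apply]
        rw [hg, hg, hg, mul_comm, div_mul_div_cancel₀ (hc0 b)]
      cover := fun y => ⟨y, hc y⟩ }
  have hm : ∀ a, ∃ m : Γ(L, φ ⁻¹ᵁ V a), IsGen L m ∧ ∀ x (hx : φ x ∈ V a),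
      L.presheaf.germ (φ ⁻¹ᵁ V a) (genericPoint X) (gen_mem hx) m = tau φ hsurj (c a) • v₀ := by
    intro a
    exact exists_frame fun x hx => hgood a x hx
  choose m hm hmv using hm
  refine ⟨H7Flat.LineCocycle.line D, H7Flat.LineCocycle.isInvertible_line D, ?_⟩
  obtain ⟨θ, -⟩ := H11Ample.exists_iso_of_gen (fun a => φ ⁻¹ᵁ V a) (fun x => ⟨φ x, hc (φ x)⟩)
    (fun a => OmegaSh.pullSect φ (H7Flat.LineCocycle.line D) (V a) (H7Flat.LineCocycle.gen D a))
    (fun a => IsGen.pullSect φ (H7Flat.LineCocycle.isGen_gen D a)) m hm fun i j w hw => by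
      have hji := H7Flat.LineCocycle.gen_trans D j i (V i ⊓ V j) inf_le_right inf_le_left
      have h2 := congrArg (OmegaSh.pullSect φ (H7Flat.LineCocycle.line D) (V i ⊓ V j)) hji
      rw [OmegaSh.pullSect_map, OmegaSh.pullSect_smul, OmegaSh.pullSect_map] at h2
      have hw' := ((IsGen.pullSect φ (H7Flat.LineCocycle.isGen_gen D j)).bijective
        (φ.preimage_mono (inf_le_right : V i ⊓ V j ≤ V j))).1 (h2.symm.trans hw)
      rw [← hw']
      refine eq_of_germ L _ _ (fun x hx => ⟨_, m i, hx.1, hm i⟩) fun x hx => ?_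
      rw [H06Mod.germ_smul, TopCat.Presheaf.germ_res_apply, TopCat.Presheaf.germ_res_apply, hmv i x hx.1, hmv j x hx.2,
        ← mul_smul]
      congr 1
      rw [← toK_germ x hx]
      erw [← Scheme.Hom.germ_stalkMap_apply φ (V i ⊓ V j) x hx, ← tau_toK φ hsurj]
      erw [TopCat.Presheaf.germ_res_apply]
      rw [hg, ← map_mul, div_mul_cancel₀ _ (hc0 j)]
  exact ⟨θ.symm⟩

end Groth.Agent.H11GenFibre
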