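import Mathlib

/-! Flat local extensions of a normal domain with integral fibres: divisors trivial on the generic fibre. -/

set_option autoImplicit false
set_option linter.style.haveILetI false
universe u

open TensorProduct

namespace Groth.Agent.H11GenFibre

/-- The fibre condition: over each prime, the extended ideal is prime up to the complement. -/
def PrimeFibres (A B : Type u) [CommRing A] [CommRing B] [Algebra A B] : Prop :=
  ∀ q : Ideal A, q.IsPrime → ∀ x y : B, x * y ∈ q.map (algebraMap A B) →
    ∃ t : A, t ∉ q ∧ (algebraMap A B t * x ∈ q.map (algebraMap A B) ∨ algebraMap A B t * y ∈ q.map (algebraMap A B))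

variable {A : Type u} [CommRing A] [IsDomain A] [IsNoetherianRing A]

/-- At an associated prime of a principal ideal of a normal domain the maximal ideal is principal. -/
theorem exists_uniformizer [IsIntegrallyClosed A] {a₀ : A} (h0 : a₀ ≠ 0) {q : Ideal A}
    (hq : q ∈ associatedPrimes A (A ⧸ Ideal.span {a₀})) :
    a₀ ∈ q ∧ ∃ π ∈ q, π ≠ 0 ∧ ∃ s ∉ q, ∀ x ∈ q, π ∣ s * x := by
  haveI := hq.isPrime
  obtain ⟨-, w, hw⟩ := isAssociatedPrime_iff.mp hq
  obtain ⟨a, rfl⟩ := Ideal.Quotient.mk_surjective w
  have hmem : ∀ x, x ∈ q ↔ a₀ ∣ x * a := fun x => by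
    rw [hw, Submodule.mem_colon_singleton, Submodule.mem_bot, ← Ideal.mem_span_singleton,
      ← Ideal.Quotient.eq_zero_iff_mem]
    exact Iff.rfl
  have ha0 : a₀ ∈ q := (hmem _).2 ⟨a, rfl⟩
  refine ⟨ha0, ?_⟩
  have hna : ¬ a₀ ∣ a := fun h => hq.isPrime.ne_top ((Ideal.eq_top_iff_one _).2 ((hmem 1).2 (by rwa [one_mul])))
  obtain ⟨π, hπ, s, hs, hπs⟩ : ∃ π ∈ q, ∃ s, π * a = a₀ * s ∧ s ∉ q := by
    by_contra hne
    push Not at hne
    let K := FractionRing A
    let z : K := algebraMap A K a / algebraMap A K a₀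
    have h0' : algebraMap A K a₀ ≠ 0 := (map_ne_zero_iff _ (IsFractionRing.injective A K)).2 h0
    have hz : IsIntegral A z := by
      refine isIntegral_of_smul_mem_submodule (Submodule.map (Algebra.linearMap A K) q) ?_
        ((IsNoetherian.noetherian q).map _) z fun n hn => ?_
      · intro h
        have h1 : algebraMap A K a₀ ∈ Submodule.map (Algebra.linearMap A K) q := ⟨a₀, ha0, rfl⟩
        rw [h, Submodule.mem_bot] at h1
        exact h0' h1
      · obtain ⟨x, hx, rfl⟩ := hn
        obtain ⟨d, hd⟩ := (hmem x).1 hx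
        refine ⟨d, hne x hx d hd, ?_⟩
        show algebraMap A K d = z * algebraMap A K x
        rw [div_mul_eq_mul_div, eq_div_iff h0', ← map_mul, ← map_mul, mul_comm a x, hd, mul_comm]
    obtain ⟨e, he⟩ := IsIntegrallyClosed.isIntegral_iff.1 hz
    refine hna ⟨e, IsFractionRing.injective A K ?_⟩
    rw [map_mul, he, mul_div_cancel₀ _ h0']
  refine ⟨π, hπ, ?_, s, hπs, fun x hx => ?_⟩
  · rintro rfl
    rw [zero_mul] at hs
    exact hπs ((mul_eq_zero.1 hs.symm).resolve_left h0 ▸ q.zero_mem)
  · obtain ⟨d, hd⟩ := (hmem x).1 hx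
    refine ⟨d, mul_left_cancel₀ h0 ?_⟩
    linear_combination π * hd - x * hs

/-- Nonzero elements are powers of the uniformizer up to the complement. -/
theorem exists_factor {q : Ideal A} [q.IsPrime] {π s : A} (hπq : π ∈ q) (hs : s ∉ q)
    (hsπ : ∀ x ∈ q, π ∣ s * x) (d : A) (hd : d ≠ 0) :
    ∃ (N : ℕ) (t w : A), t ∉ q ∧ w ∉ q ∧ t * d = π ^ N * w := by
  let J : A → Ideal A := fun d =>
    { carrier := {z | ∃ t ∉ q, d ∣ t * z}
      zero_mem' := ⟨s, hs, by simp⟩
      add_mem' := by
        rintro z z' ⟨t, ht, h⟩ ⟨t', ht', h'⟩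
        refine ⟨t * t', Ideal.IsPrime.mul_notMem inferInstance ht ht', ?_⟩
        rw [mul_add]
        exact dvd_add ((h.mul_right t').trans (by rw [mul_right_comm])) ((h'.mul_left t).trans (by rw [mul_assoc]))
      smul_mem' := by
        rintro c z ⟨t, ht, h⟩
        exact ⟨t, ht, by rw [smul_eq_mul, mul_left_comm]; exact h.mul_left c⟩ }
  suffices ∀ (I : Ideal A) (d : A), d ≠ 0 → J d = I → ∃ (N : ℕ) (t w : A), t ∉ q ∧ w ∉ q ∧ t * d = π ^ N * w from
    this _ d hd rfl
  intro I
  induction I using (IsNoetherian.wf (R := A) (M := A) inferInstance).induction with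
  | h I ih =>
    intro d hd hI
    by_cases hdq : d ∈ q
    · obtain ⟨e, he⟩ := hsπ d hdq
      have he0 : e ≠ 0 := by
        rintro rfl
        rw [mul_zero, mul_eq_zero] at he
        exact he.elim (fun h => hs (h ▸ q.zero_mem)) hd
      have hlt : I < J e := by
        rw [← hI]
        refine lt_of_le_not_ge ?_ fun hle => ?_
        · rintro z ⟨t, ht, c, hc⟩
          exact ⟨t * s, Ideal.IsPrime.mul_notMem inferInstance ht hs, c * π, by linear_combination s * hc + c * he⟩
        · obtain ⟨t, ht, c, hc⟩ := hle (x := e) ⟨s, hs, dvd_mul_left e s⟩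
          have : t * s * e = c * π * e := by linear_combination s * hc + c * he
          exact Ideal.IsPrime.mul_notMem inferInstance ht hs (mul_right_cancel₀ he0 this ▸ q.mul_mem_left c hπq)
      obtain ⟨N, t, w, ht, hw, h⟩ := ih _ hlt e he0 rfl
      exact ⟨N + 1, t * s, w, Ideal.IsPrime.mul_notMem inferInstance ht hs, hw, by linear_combination t * he + π * h⟩
    · exact ⟨0, 1, d, q.primeCompl.one_mem, hdq, by simp⟩

variable {B : Type u} [CommRing B] [IsDomain B] [Algebra A B] [Module.Flat A B]

omit [IsDomain A] [IsNoetherianRing A] [IsDomain B] in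
theorem algebraMap_injective [IsLocalRing A] [IsLocalRing B] [IsLocalHom (algebraMap A B)] :
    Function.Injective (algebraMap A B) := by
  haveI : Module.FaithfullyFlat A B := Module.FaithfullyFlat.of_flat_of_isLocalHom
  exact FaithfulSMul.algebraMap_injective A B

omit [IsDomain A] [IsNoetherianRing A] [IsDomain B] in
/-- Colons commute with flat extensions. -/
theorem mem_map_colon {n : ℕ} (a₀ : A) (e : Fin n → A) (z : B)
    (h : ∀ i, algebraMap A B a₀ ∣ algebraMap A B (e i) * z) (K : Ideal A)
    (hK : ∀ a, a ∈ K ↔ ∀ i, a₀ ∣ e i * a) : z ∈ K.map (algebraMap A B) := by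
  let ψ : A →ₗ[A] Fin n → A ⧸ Ideal.span {a₀} :=
    LinearMap.pi fun i => (Ideal.span {a₀}).mkQ.comp (LinearMap.mulLeft A (e i))
  have hex : Function.Exact (Submodule.subtype K) ψ := fun a => by
    simp only [funext_iff, ψ, LinearMap.pi_apply, LinearMap.comp_apply, Pi.zero_apply, Submodule.mkQ_apply,
      Submodule.Quotient.mk_eq_zero, LinearMap.mulLeft_apply, Ideal.mem_span_singleton]
    exact ((hK a).symm).trans ⟨fun h => ⟨⟨a, h⟩, rfl⟩, fun ⟨y, hy⟩ => hy ▸ y.2⟩
  have h0 : ψ.lTensor B (z ⊗ₜ 1) = 0 := by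
    refine (TensorProduct.piRight A A B fun _ : Fin n => A ⧸ Ideal.span {a₀}).injective ?_
    rw [map_zero]
    funext i
    obtain ⟨r, hr⟩ := h i
    rw [LinearMap.lTensor_tmul, TensorProduct.piRight_apply]
    show z ⊗ₜ[A] (Ideal.Quotient.mk (Ideal.span {a₀}) (e i * 1)) = 0
    rw [show (Ideal.Quotient.mk (Ideal.span {a₀}) (e i * 1)) = e i • (1 : A ⧸ Ideal.span {a₀}) by
      rw [mul_one, Algebra.smul_def, mul_one]; rfl, TensorProduct.tmul_smul, TensorProduct.smul_tmul',
      Algebra.smul_def, hr, ← Algebra.smul_def, TensorProduct.smul_tmul, Algebra.smul_def,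
      mul_one, show algebraMap A (A ⧸ Ideal.span {a₀}) a₀ = 0 from
        Ideal.Quotient.eq_zero_iff_mem.2 (Ideal.mem_span_singleton_self _), TensorProduct.tmul_zero]
  obtain ⟨w, hw⟩ := (Module.Flat.lTensor_exact B hex _).1 h0
  have hz : ∀ w : B ⊗[A] K, (TensorProduct.rid A B) ((Submodule.subtype K).lTensor B w) ∈ K.map (algebraMap A B) := by
    intro w
    induction w with
    | zero => simp
    | tmul b k =>
      rw [LinearMap.lTensor_tmul, TensorProduct.rid_tmul, Algebra.smul_def]
      exact Ideal.mul_mem_right _ _ (Ideal.mem_map_of_mem _ k.2)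
    | add u v hu hv => rw [map_add, map_add]; exact add_mem hu hv
  have := hz w
  rwa [hw, TensorProduct.rid_tmul, one_smul] at this

variable [IsLocalRing A] [IsLocalRing B] [IsLocalHom (algebraMap A B)]

omit [IsNoetherianRing A] [IsDomain B] in
/-- An element of the fraction field of the base which is a unit above is a unit. -/
theorem isUnit_ratio {a a' : A} (v : Bˣ) (h : algebraMap A B a = algebraMap A B a' * v) :
    ∃ u : Aˣ, a = a' * u := by
  haveI : Module.FaithfullyFlat A B := Module.FaithfullyFlat.of_flat_of_isLocalHom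
  have key : ∀ {x y : A} (w : B), algebraMap A B x = algebraMap A B y * w → y ∣ x := fun {x y} w hw => by
    have : x ∈ ((Ideal.span {y}).map (algebraMap A B)).comap (algebraMap A B) := by
      rw [Ideal.mem_comap, hw, Ideal.map_span, Set.image_singleton]
      exact Ideal.mul_mem_right _ _ (Ideal.mem_span_singleton_self _)
    rw [Ideal.comap_map_eq_self_of_faithfullyFlat] at this
    exact Ideal.mem_span_singleton.1 this
  have h' : algebraMap A B a' = algebraMap A B a * (↑v⁻¹ : B) := by rw [h, mul_assoc, Units.mul_inv, mul_one]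
  obtain ⟨u, hu⟩ := associated_of_dvd_dvd (key _ h) (key _ h')
  exact ⟨u, hu.symm⟩

/-- A divisor dividing an element of the base comes from the base. -/
theorem exists_eq_mul_unit [IsIntegrallyClosed A] (hfib : PrimeFibres A B) {b b' : B} {a₀ : A} (h0 : a₀ ≠ 0)
    (h : b * b' = algebraMap A B a₀) : ∃ c : A, c ≠ 0 ∧ ∃ u : Bˣ, b = algebraMap A B c * u := by
  classical
  have hinj := algebraMap_injective (A := A) (B := B)
  have hb0 : algebraMap A B a₀ ≠ 0 := (map_ne_zero_iff _ hinj).2 h0
  have hb' : b' ≠ 0 := fun e => hb0 (by rw [← h, e, mul_zero])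
  have hb : b ≠ 0 := fun e => hb0 (by rw [← h, e, zero_mul])
  let I' : Ideal A := (Ideal.span {b'}).comap (algebraMap A B)
  obtain ⟨n, e, he⟩ := Submodule.fg_iff_exists_fin_generating_family.1 (IsNoetherian.noetherian I')
  let K : Ideal A :=
    { carrier := {a | ∀ i, a₀ ∣ e i * a}
      zero_mem' := fun i => by simp
      add_mem' := fun {x y} hx hy i => by rw [mul_add]; exact dvd_add (hx i) (hy i)
      smul_mem' := fun c x hx i => by rw [smul_eq_mul, mul_left_comm]; exact (hx i).mul_left c }
  have heI : ∀ i, b' ∣ algebraMap A B (e i) := fun i =>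
    Ideal.mem_span_singleton.1 (show e i ∈ I' from he.le (Ideal.subset_span ⟨i, rfl⟩))
  have hmem : b ∈ K.map (algebraMap A B) := mem_map_colon a₀ e b (fun i => by
    obtain ⟨r, hr⟩ := heI i
    exact ⟨r, by rw [hr, ← h]; ring⟩) K fun a => Iff.rfl
  have hKI : ∀ a ∈ K, ∀ x ∈ I', a₀ ∣ x * a := fun a ha x hx => by
    rw [← he] at hx
    induction hx using Submodule.span_induction with
    | mem x hx => obtain ⟨i, rfl⟩ := hx; exact ha i
    | zero => simp
    | add x y _ _ hx hy => rw [add_mul]; exact dvd_add hx hy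
    | smul c x _ hx => rw [smul_eq_mul, mul_assoc]; exact hx.mul_left c
  have hK : ∀ a ∈ K, b ∣ algebraMap A B a := fun a ha => by
    let z := algebraMap A B a * b'
    let J : Ideal A := (Submodule.colon (Ideal.span {algebraMap A B a₀}) {z}).comap (algebraMap A B)
    have hJ : ∀ t, t ∈ J ↔ algebraMap A B a₀ ∣ algebraMap A B t * z := fun t => by
      rw [Ideal.mem_comap, Submodule.mem_colon_singleton, smul_eq_mul, Ideal.mem_span_singleton]
    have hJq : ∀ q ∈ associatedPrimes A (A ⧸ Ideal.span {a₀}), ¬ J ≤ q := fun q hq hle => by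
      haveI := hq.isPrime
      obtain ⟨-, π, hπq, hπ0, s, hs, hsπ⟩ := exists_uniformizer h0 hq
      have hπB : algebraMap A B π ≠ 0 := (map_ne_zero_iff _ hinj).2 hπ0
      have hdvd : ∀ y ∈ q.map (algebraMap A B), algebraMap A B π ∣ algebraMap A B s * y := fun y hy => by
        induction hy using Submodule.span_induction with
        | mem y hy => obtain ⟨x, hx, rfl⟩ := hy; rw [← map_mul]; exact map_dvd _ (hsπ x hx)
        | zero => simp
        | add x y _ _ hx hy => rw [mul_add]; exact dvd_add hx hy
        | smul c x _ hx => rw [smul_eq_mul, mul_left_comm]; exact hx.mul_left c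
      have split : ∀ (N : ℕ) (x y r : B), x * y = algebraMap A B π ^ N * r →
          ∃ t ∉ q, ∃ (i j : ℕ) (x' y' : B), i + j = N ∧ algebraMap A B t * x = algebraMap A B π ^ i * x' ∧
            algebraMap A B t * y = algebraMap A B π ^ j * y' := by
        intro N
        induction N with
        | zero => exact fun x y r _ => ⟨1, q.primeCompl.one_mem, 0, 0, x, y, rfl, by simp, by simp⟩
        | succ N ih =>
          intro x y r hxy
          obtain ⟨t, ht, hor⟩ := hfib q inferInstance x y (by
            rw [hxy, pow_succ', mul_assoc]; exact Ideal.mul_mem_right _ _ (Ideal.mem_map_of_mem _ hπq))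
          have hts : s * t ∉ q := Ideal.IsPrime.mul_notMem inferInstance hs ht
          rcases hor with hx | hy
          · obtain ⟨x', hx'⟩ := hdvd _ hx
            obtain ⟨t', ht', i, j, x'', y'', hij, h1, h2⟩ := ih x' y (algebraMap A B (s * t) * r) (by
              refine mul_left_cancel₀ hπB ?_
              rw [← mul_assoc, ← hx', map_mul]
              linear_combination (algebraMap A B s * algebraMap A B t) * hxy)
            refine ⟨t' * (s * t), Ideal.IsPrime.mul_notMem inferInstance ht' hts, i + 1, j, x'',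
              algebraMap A B (s * t) * y'', by omega, ?_, ?_⟩
            · rw [map_mul, map_mul]; linear_combination algebraMap A B t' * hx' + algebraMap A B π * h1
            · rw [map_mul]; linear_combination algebraMap A B (s * t) * h2
          · obtain ⟨y', hy'⟩ := hdvd _ hy
            obtain ⟨t', ht', i, j, x'', y'', hij, h1, h2⟩ := ih x y' (algebraMap A B (s * t) * r) (by
              refine mul_left_cancel₀ hπB ?_
              rw [mul_left_comm, ← hy', map_mul]
              linear_combination (algebraMap A B s * algebraMap A B t) * hxy)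
            refine ⟨t' * (s * t), Ideal.IsPrime.mul_notMem inferInstance ht' hts, i, j + 1,
              algebraMap A B (s * t) * x'', y'', by omega, ?_, ?_⟩
            · rw [map_mul]; linear_combination algebraMap A B (s * t) * h1
            · rw [map_mul, map_mul]; linear_combination algebraMap A B t' * hy' + algebraMap A B π * h2
      obtain ⟨N, t₀, w, ht₀, hw, hfac⟩ := exists_factor hπq hs hsπ a₀ h0
      have hfacB : algebraMap A B t₀ * algebraMap A B a₀ = algebraMap A B π ^ N * algebraMap A B w := by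
        rw [← map_mul, hfac, map_mul, map_pow]
      obtain ⟨t, ht, i, j, x, y, hij, hx, hy⟩ := split N (algebraMap A B t₀ * b) b' (algebraMap A B w) (by
        rw [mul_assoc, h, hfacB])
      have hxy : x * y = algebraMap A B (w * t ^ 2) := by
        refine mul_left_cancel₀ (pow_ne_zero N hπB) ?_
        rw [map_mul, map_pow, ← hij, pow_add]
        rw [← hij, pow_add] at hfacB
        linear_combination (-(algebraMap A B π ^ j * y)) * hx - (algebraMap A B t * algebraMap A B t₀ * b) * hy
          + (algebraMap A B t ^ 2 * algebraMap A B t₀) * h + (algebraMap A B t ^ 2) * hfacB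
      have hmemI : π ^ j * (w * t ^ 2) ∈ I' := by
        rw [Ideal.mem_comap, Ideal.mem_span_singleton]
        refine ⟨algebraMap A B t * x, ?_⟩
        rw [map_mul, map_pow, ← hxy]
        linear_combination (-x) * hy
      obtain ⟨d, hd⟩ := hKI a ha _ hmemI
      have hd' : a * (t₀ * (w * t ^ 2)) = π ^ i * (w * d) := by
        refine mul_left_cancel₀ (pow_ne_zero j hπ0) ?_
        rw [← hij, pow_add] at hfac
        linear_combination t₀ * hd + d * hfac
      have hd'' : algebraMap A B a * (algebraMap A B t₀ * (algebraMap A B w * algebraMap A B t ^ 2)) =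
          algebraMap A B π ^ i * (algebraMap A B w * algebraMap A B d) := by
        simpa only [map_mul, map_pow] using congrArg (algebraMap A B) hd'
      refine Ideal.IsPrime.mul_notMem inferInstance ht₀
        (Ideal.IsPrime.mul_notMem inferInstance
          (Ideal.IsPrime.mul_notMem inferInstance hw (Ideal.IsPrime.mul_notMem inferInstance ht ht)) ht)
        (hle ((hJ _).2 ⟨algebraMap A B d * y * algebraMap A B t₀, ?_⟩))
      simp only [map_mul, z]
      rw [← hij, pow_add] at hfacB
      linear_combination (algebraMap A B t * b') * hd''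
        + (algebraMap A B π ^ i * algebraMap A B w * algebraMap A B d) * hy
        - (algebraMap A B d * y) * hfacB
    obtain ⟨t, htJ, htq⟩ : ∃ t ∈ J, ∀ q ∈ associatedPrimes A (A ⧸ Ideal.span {a₀}), t ∉ q := by
      by_contra hne
      push Not at hne
      have hfin := associatedPrimes.finite A (A ⧸ Ideal.span {a₀})
      have hsub : (J : Set A) ⊆ ⋃ q ∈ (hfin.toFinset : Set (Ideal A)), (q : Set A) := fun t ht => by
        obtain ⟨q, hq, htq⟩ := hne t ht
        exact Set.mem_biUnion (hfin.mem_toFinset.2 hq) htq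
      obtain ⟨q, hq, hle⟩ := (Ideal.subset_union_prime ⊥ ⊥ fun q hq _ _ =>
        (hfin.mem_toFinset.1 hq).isPrime).1 hsub
      exact hJq q (hfin.mem_toFinset.1 hq) hle
    have hz : algebraMap A B a₀ ∣ z := by
      have h1 := mem_map_colon a₀ (fun _ : Fin 1 => t) z (fun _ => (hJ t).1 htJ) (Ideal.span {a₀}) fun x => ⟨
        fun hx i => (Ideal.mem_span_singleton.1 hx).mul_left t, fun hx => by
          rw [← Ideal.Quotient.eq_zero_iff_mem]
          by_contra hx0
          have hzd : t ∈ {r : A | ∃ v : A ⧸ Ideal.span {a₀}, v ≠ 0 ∧ r • v = 0} := ⟨_, hx0, by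
            rw [Algebra.smul_def, Ideal.Quotient.algebraMap_eq, ← map_mul, Ideal.Quotient.eq_zero_iff_mem,
              Ideal.mem_span_singleton]
            exact hx 0⟩
          rw [← biUnion_associatedPrimes_eq_zero_divisors A (A ⧸ Ideal.span {a₀}), Set.mem_iUnion₂] at hzd
          obtain ⟨q, hq, htq'⟩ := hzd
          exact htq q hq htq'⟩
      rw [Ideal.map_span, Set.image_singleton, Ideal.mem_span_singleton] at h1
      exact h1
    obtain ⟨r, hr⟩ := hz
    exact ⟨r, mul_right_cancel₀ hb' (by rw [mul_assoc, mul_comm r b', ← mul_assoc, h]; exact hr)⟩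
  by_contra hne
  push Not at hne
  have hm : ∀ x ∈ K.map (algebraMap A B), ∃ r, x = b * r ∧ ¬ IsUnit r := fun x hx => by
    induction hx using Submodule.span_induction with
    | mem x hx =>
      obtain ⟨a, ha, rfl⟩ := hx
      obtain ⟨r, hr⟩ := hK a ha
      refine ⟨r, hr, fun hu => ?_⟩
      refine hne a (fun ha0 => hb ?_) hu.unit⁻¹ ?_
      · rw [ha0, map_zero] at hr
        exact (mul_eq_zero.1 hr.symm).resolve_right hu.ne_zero
      · rw [hr, mul_assoc, IsUnit.mul_val_inv, mul_one]
    | zero => exact ⟨0, (mul_zero b).symm, not_isUnit_zero⟩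
    | add x y _ _ hx hy =>
      obtain ⟨r, hr, hru⟩ := hx
      obtain ⟨r', hr', hru'⟩ := hy
      exact ⟨r + r', by rw [hr, hr', mul_add], IsLocalRing.nonunits_add hru hru'⟩
    | smul c x _ hx =>
      obtain ⟨r, hr, hru⟩ := hx
      exact ⟨c * r, by rw [hr, smul_eq_mul]; ring, fun hu => hru (isUnit_of_mul_isUnit_right hu)⟩
  obtain ⟨r, hr, hru⟩ := hm b hmem
  exact hru ((mul_eq_left₀ hb).1 hr.symm ▸ isUnit_one)

end Groth.Agent.H11GenFibre
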