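import Groth.Agent.H11GenFibre.Alg
import Mathlib.AlgebraicGeometry.Fiber
import Mathlib.AlgebraicGeometry.ResidueField
import Mathlib.AlgebraicGeometry.Morphisms.Flat

/-! The stalks of a morphism with integral fibres satisfy the fibre condition. -/

set_option autoImplicit false
set_option linter.style.haveILetI false
universe u

open CategoryTheory CategoryTheory.Limits AlgebraicGeometry TopologicalSpace

namespace Groth.Agent.H11GenFibre

/-- Integrality of the fibre rings gives the fibre condition after localisation. -/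
theorem primeFibres_localization {P R A B : Type u} [CommRing P] [CommRing R] [CommRing A] [CommRing B]
    [Algebra P A] [Algebra R B] [Algebra A B] (f : P →+* R) (MA : Submonoid P) [IsLocalization MA A]
    (MB : Submonoid R) [IsLocalization MB B]
    (hcomm : ∀ p, algebraMap A B (algebraMap P A p) = algebraMap R B (f p))
    (h : ∀ q : Ideal P, q.IsPrime → ∀ x y : R, x * y ∈ q.map f →
      ∃ t, t ∉ q ∧ (f t * x ∈ q.map f ∨ f t * y ∈ q.map f)) :
    PrimeFibres A B := by
  intro q hq x y hxy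
  haveI := hq
  let q' := q.comap (algebraMap P A)
  have hmap : q.map (algebraMap A B) = (q'.map f).map (algebraMap R B) := by
    conv_lhs => rw [← IsLocalization.map_comap MA A q]
    rw [Ideal.map_map, Ideal.map_map]
    exact congrArg (Ideal.map · _) (RingHom.ext hcomm)
  rw [hmap] at hxy ⊢
  obtain ⟨⟨x₀, sx⟩, hx⟩ := IsLocalization.surj MB x
  obtain ⟨⟨y₀, sy⟩, hy⟩ := IsLocalization.surj MB y
  have h0 : algebraMap R B (x₀ * y₀) ∈ (q'.map f).map (algebraMap R B) := by
    rw [map_mul, ← hx, ← hy, mul_mul_mul_comm]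
    exact Ideal.mul_mem_right _ _ hxy
  obtain ⟨m, hm, hm'⟩ := (IsLocalization.algebraMap_mem_map_algebraMap_iff MB B _ _).1 h0
  obtain ⟨t, ht, hor⟩ := h q' inferInstance (m * x₀) y₀ (by rwa [mul_assoc])
  refine ⟨algebraMap P A t, ht, ?_⟩
  rw [hcomm]
  rcases hor with hl | hr
  · refine Or.inl ?_
    have h1 := Ideal.mem_map_of_mem (algebraMap R B) hl
    rw [map_mul, map_mul, ← hx] at h1
    refine (Ideal.unit_mul_mem_iff_mem _ ((IsLocalization.map_units B ⟨m, hm⟩).mul (IsLocalization.map_units B sx))).1 ?_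
    convert h1 using 1
    ring
  · refine Or.inr ?_
    have h1 := Ideal.mem_map_of_mem (algebraMap R B) hr
    rw [map_mul, ← hy] at h1
    refine (Ideal.unit_mul_mem_iff_mem _ (IsLocalization.map_units B sy)).1 ?_
    convert h1 using 1
    ring

/-- A domain receiving the quotient by a prime as fibre ring detects the fibre condition. -/
theorem fibre_cond_of_isPushout {P R κ T : CommRingCat.{u}} [Nontrivial κ] {f : P ⟶ R} {e : P ⟶ κ} {g : R ⟶ T}
    {g' : κ ⟶ T} (hp : IsPushout f e g g') (q : Ideal P) [q.IsPrime] (hker : ∀ a, e a = 0 ↔ a ∈ q)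
    (hunit : ∀ a, a ∉ q → IsUnit (e a)) (hgen : ∀ z : κ, ∃ a t : P, t ∉ q ∧ z * e t = e a)
    (hdom : ∀ a b : T, a * b = 0 → a = 0 ∨ b = 0) :
    ∀ x y : R, x * y ∈ q.map f.hom → ∃ t, t ∉ q ∧ (f t * x ∈ q.map f.hom ∨ f t * y ∈ q.map f.hom) := by
  let M : Submonoid (R ⧸ q.map f.hom) := q.primeCompl.map ((Ideal.Quotient.mk _).comp f.hom)
  let L := Localization M
  let l : R →+* L := (algebraMap (R ⧸ q.map f.hom) L).comp (Ideal.Quotient.mk _)
  have hl : ∀ a : P, a ∉ q → IsUnit (l (f a)) := fun a ha =>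
    IsLocalization.map_units L (⟨_, a, ha, rfl⟩ : M)
  letI : Algebra (P ⧸ q) κ := (Ideal.Quotient.lift q e.hom fun a ha => (hker a).2 ha).toAlgebra
  haveI hloc : IsLocalization (nonZeroDivisors (P ⧸ q)) κ := by
    refine ⟨fun ⟨y, hy⟩ => ?_, fun z => ?_, fun {a b} h => ?_⟩
    · obtain ⟨y, rfl⟩ := Ideal.Quotient.mk_surjective y
      exact hunit y fun h => nonZeroDivisors.ne_zero hy (Ideal.Quotient.eq_zero_iff_mem.2 h)
    · obtain ⟨a, t, ht, hz⟩ := hgen z
      exact ⟨⟨Ideal.Quotient.mk q a, ⟨Ideal.Quotient.mk q t,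
        mem_nonZeroDivisors_of_ne_zero fun h => ht (Ideal.Quotient.eq_zero_iff_mem.1 h)⟩⟩, hz⟩
    · obtain ⟨a, rfl⟩ := Ideal.Quotient.mk_surjective a
      obtain ⟨b, rfl⟩ := Ideal.Quotient.mk_surjective b
      refine ⟨1, congrArg (((1 : nonZeroDivisors (P ⧸ q)) : P ⧸ q) * ·) ?_⟩
      rw [Ideal.Quotient.eq, ← hker, map_sub, sub_eq_zero]
      exact h
  have hPL : ∀ a ∈ q, l (f a) = 0 := fun a ha => by
    simp only [l, RingHom.comp_apply, Ideal.Quotient.eq_zero_iff_mem.2 (Ideal.mem_map_of_mem f.hom ha), map_zero]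
  let k : κ →+* L := IsLocalization.lift (M := nonZeroDivisors (P ⧸ q))
    (g := Ideal.Quotient.lift q (l.comp f.hom) hPL) fun ⟨y, hy⟩ => by
      obtain ⟨y, rfl⟩ := Ideal.Quotient.mk_surjective y
      exact hl y fun h => nonZeroDivisors.ne_zero hy (Ideal.Quotient.eq_zero_iff_mem.2 h)
  have hw : f ≫ CommRingCat.ofHom l = e ≫ CommRingCat.ofHom k := by
    ext a
    have := (IsLocalization.lift_eq (M := nonZeroDivisors (P ⧸ q)) (S := κ) (g := Ideal.Quotient.lift q (l.comp f.hom) hPL) (fun ⟨y, hy⟩ => by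
      obtain ⟨y, rfl⟩ := Ideal.Quotient.mk_surjective y
      exact hl y fun h => nonZeroDivisors.ne_zero hy (Ideal.Quotient.eq_zero_iff_mem.2 h)) (Ideal.Quotient.mk q a)).symm
    exact this
  let d : T ⟶ CommRingCat.of L := hp.desc (CommRingCat.ofHom l) (CommRingCat.ofHom k) hw
  have hzero : ∀ z : R, g z = 0 → ∃ t, t ∉ q ∧ f t * z ∈ q.map f.hom := fun z hz => by
    have h1 : l z = 0 := by
      have := congr($(hp.inl_desc (CommRingCat.ofHom l) (CommRingCat.ofHom k) hw) z)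
      rw [ConcreteCategory.comp_apply, hz, map_zero] at this
      exact this.symm
    obtain ⟨⟨_, t, ht, rfl⟩, htz⟩ := (IsLocalization.map_eq_zero_iff M L _).1 h1
    refine ⟨t, ht, Ideal.Quotient.eq_zero_iff_mem.1 ?_⟩
    rw [map_mul]
    exact htz
  intro x y hxy
  have h0 : g x * g y = 0 := by
    rw [← map_mul]
    refine (Ideal.map_le_iff_le_comap.2 fun a ha => ?_ : q.map f.hom ≤ RingHom.ker g.hom) hxy
    show g (f a) = 0
    rw [← ConcreteCategory.comp_apply, hp.w, ConcreteCategory.comp_apply, (hker a).2 ha, map_zero]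
  rcases hdom _ _ h0 with h | h
  · obtain ⟨t, ht, h'⟩ := hzero x h
    exact ⟨t, ht, Or.inl h'⟩
  · obtain ⟨t, ht, h'⟩ := hzero y h
    exact ⟨t, ht, Or.inr h'⟩

theorem fromSpecResidueField_appLE {Y : Scheme.{u}} (U : Y.Opens) (y : Y) (hy : y ∈ U)
    (e : ⊤ ≤ Y.fromSpecResidueField y ⁻¹ᵁ U) :
    (Y.fromSpecResidueField y).appLE U ⊤ e =
      Y.evaluation U y hy ≫ (Scheme.ΓSpecIso (Y.residueField y)).inv := by
  unfold Scheme.fromSpecResidueField
  have e' : ⊤ ≤ Y.fromSpecStalk y ⁻¹ᵁ U := fun s _ => by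
    show Y.fromSpecStalk y s ∈ U
    have h : Y.fromSpecStalk y s ⤳ y := by
      have := Scheme.range_fromSpecStalk (X := Y) (x := y) ▸ Set.mem_range_self (f := Y.fromSpecStalk y) s
      exact this
    exact h.mem_open U.2 hy
  rw [← Scheme.Hom.appLE_comp_appLE (Spec.map (Y.residue y)) (Y.fromSpecStalk y) U ⊤ ⊤ e' le_top,
    Scheme.Hom.appLE, Scheme.fromSpecStalk_app hy, Scheme.Hom.appLE, ← Scheme.germ_residue]
  simp only [Category.assoc]
  congr 1
  refine Eq.trans ?_ (Scheme.ΓSpecIso_inv_naturality (Y.residue y)).symm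
  erw [CategoryTheory.Functor.map_id, Category.comp_id]
  rw [← Functor.map_comp_assoc]
  congr 1

/-- The stalks of a morphism with integral fibres satisfy the fibre condition. -/
theorem primeFibres_stalk {X Y : Scheme.{u}} (φ : X ⟶ Y) (hfib : ∀ y : Y, IsIntegral (φ.fiber y)) (x : X) :
    letI := (φ.stalkMap x).hom.toAlgebra
    PrimeFibres (Y.presheaf.stalk (φ x)) (X.presheaf.stalk x) := by
  letI := (φ.stalkMap x).hom.toAlgebra
  show PrimeFibres (Y.presheaf.stalk (φ x)) (X.presheaf.stalk x)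
  obtain ⟨U, hU, hxU, -⟩ := exists_isAffineOpen_mem_and_subset (U := (⊤ : Y.Opens)) (x := φ x) trivial
  obtain ⟨V, hV, hxV, hVU⟩ := exists_isAffineOpen_mem_and_subset (U := φ ⁻¹ᵁ U) (x := x) hxU
  letI := TopCat.Presheaf.algebra_section_stalk Y.presheaf (⟨φ x, hxU⟩ : U)
  letI := TopCat.Presheaf.algebra_section_stalk X.presheaf (⟨x, hxV⟩ : V)
  haveI := hU.isLocalization_stalk ⟨φ x, hxU⟩
  haveI := hV.isLocalization_stalk ⟨x, hxV⟩
  refine primeFibres_localization (A := Y.presheaf.stalk (φ x)) (B := X.presheaf.stalk x) (φ.appLE U V hVU).hom (hU.primeIdealOf ⟨φ x, hxU⟩).asIdeal.primeCompl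
    (hV.primeIdealOf ⟨x, hxV⟩).asIdeal.primeCompl (fun p => ?_) fun q hq => ?_
  · show φ.stalkMap x (Y.presheaf.germ U (φ x) hxU p) = X.presheaf.germ V x hxV (φ.appLE U V hVU p)
    rw [Scheme.Hom.germ_stalkMap_apply]
    exact (TopCat.Presheaf.germ_res_apply X.presheaf (homOfLE hVU) x hxV (φ.app U p)).symm
  let y := hU.fromSpec ⟨q, hq⟩
  have hy : y ∈ U := hU.range_fromSpec.le ⟨_, rfl⟩
  have hyq : hU.primeIdealOf ⟨y, hy⟩ = ⟨q, hq⟩ :=
    hU.fromSpec.isOpenEmbedding.injective (hU.fromSpec_primeIdealOf ⟨y, hy⟩)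
  have hT : (⊤ : (Spec (Y.residueField y)).Opens) ≤ Y.fromSpecResidueField y ⁻¹ᵁ U := fun s _ => by
    show Y.fromSpecResidueField y s ∈ U
    rw [Scheme.fromSpecResidueField_apply]; exact hy
  have hp := (isIso_pushoutSection_iff (IsPullback.of_hasPullback φ (Y.fromSpecResidueField y)) hT hVU
    (UY := pullback.fst φ (Y.fromSpecResidueField y) ⁻¹ᵁ V ⊓ pullback.snd φ (Y.fromSpecResidueField y) ⁻¹ᵁ ⊤)
    rfl).mp (isIso_pushoutSection_of_isAffineOpen _ hT hVU rfl hU (isAffineOpen_top _) hV)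
  haveI : IsIntegral (pullback φ (Y.fromSpecResidueField y)) := hfib y
  letI := TopCat.Presheaf.algebra_section_stalk Y.presheaf (⟨y, hy⟩ : U)
  haveI := hU.isLocalization_stalk ⟨y, hy⟩
  haveI : Nontrivial Γ(Spec (Y.residueField y), ⊤) :=
    (ConcreteCategory.bijective_of_isIso (Scheme.ΓSpecIso (Y.residueField y)).inv).1.nontrivial
  have hev : ∀ a, (Y.fromSpecResidueField y).appLE U ⊤ hT a =
      (Scheme.ΓSpecIso (Y.residueField y)).inv (Y.residue y (algebraMap Γ(Y, U) (Y.presheaf.stalk y) a)) := fun a => by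
    rw [fromSpecResidueField_appLE U y hy hT]
    rfl
  have hunit : ∀ a, a ∉ q → IsUnit ((Y.fromSpecResidueField y).appLE U ⊤ hT a) := fun a ha => by
    rw [hev]
    exact ((IsLocalization.map_units (Y.presheaf.stalk y)
      (⟨a, by rw [hyq]; exact ha⟩ : (hU.primeIdealOf ⟨y, hy⟩).asIdeal.primeCompl)).map (Y.residue y).hom).map _
  refine fibre_cond_of_isPushout hp q (fun a => ⟨fun h => ?_, fun ha => ?_⟩) hunit (fun z => ?_) ?_
  · by_contra ha
    exact (hunit a ha).ne_zero h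
  · rw [hev, (map_eq_zero_iff _ (ConcreteCategory.bijective_of_isIso
      (Scheme.ΓSpecIso (Y.residueField y)).inv).1)]
    refine (IsLocalRing.residue_eq_zero_iff _).2 ?_
    have hm : Ideal.comap (algebraMap Γ(Y, U) (Y.presheaf.stalk y)) (IsLocalRing.maximalIdeal (Y.presheaf.stalk y)) =
        (hU.primeIdealOf ⟨y, hy⟩).asIdeal :=
      IsLocalization.AtPrime.comap_maximalIdeal (Y.presheaf.stalk y) (hU.primeIdealOf ⟨y, hy⟩).asIdeal
    rw [← Ideal.mem_comap, hm, hyq]
    exact ha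
  · obtain ⟨r, rfl⟩ := (ConcreteCategory.bijective_of_isIso (Scheme.ΓSpecIso (Y.residueField y)).inv).2 z
    obtain ⟨c, rfl⟩ := Y.residue_surjective y r
    obtain ⟨⟨a, t, ht⟩, hc⟩ := IsLocalization.surj (hU.primeIdealOf ⟨y, hy⟩).asIdeal.primeCompl c
    refine ⟨a, t, by rw [hyq] at ht; exact ht, ?_⟩
    rw [hev, hev, ← map_mul, ← map_mul, hc]
  · intro a b hab
    let O := pullback.fst φ (Y.fromSpecResidueField y) ⁻¹ᵁ V ⊓ pullback.snd φ (Y.fromSpecResidueField y) ⁻¹ᵁ ⊤
    rcases isEmpty_or_nonempty O with h | h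
    · exact Or.inl (TopCat.Presheaf.section_ext (pullback φ (Y.fromSpecResidueField y)).sheaf _ _ _
        fun z hz => (h.false ⟨z, hz⟩).elim)
    · haveI : Nonempty O.toScheme := h
      exact mul_eq_zero.1 hab

end Groth.Agent.H11GenFibre
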